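import Groth.Agent.Lib.RelAmple18.Ops
import Groth.Agent.Lib.RelAmple18.Generation
import Groth.Agent.Lib.GrMod11.TwistEpi
import Groth.Agent.Lib.CohFound.SerreVan
import Groth.Agent.Lib.KFlat.FinLocFree
import Groth.Prelude.Def_Lef

/-!
# The formal Hom condition passes to presentations
-/

set_option autoImplicit false
set_option linter.style.haveILetI false
set_option backward.isDefEq.respectTransparency false

universe u

open CategoryTheory CategoryTheory.Limits AlgebraicGeometry

noncomputable section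

namespace Groth.Agent.LefFEt11

open Groth.Agent

variable {X : Scheme.{u}} {I : X.IdealSheafData}

theorem homToFormal_coprod {M : X.Modules} {ι : Type} [HasCoproduct fun _ : ι => M]
    (h : Lef.HomToFormalBijective I M) : Lef.HomToFormalBijective I (∐ fun _ : ι => M) := by
  refine ⟨fun φ ψ e => Sigma.hom_ext _ _ fun j => h.1 _ _ fun n => ?_, fun y hy => ?_⟩
  · simp only [Category.assoc]
    rw [e n]
  · choose s hs using fun j : ι => h.2 (fun n => Sigma.ι (fun _ : ι => M) j ≫ y n) fun n => by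
      rw [Category.assoc, hy n]
    exact ⟨Sigma.desc s, fun n => Sigma.hom_ext _ _ fun j => by rw [Sigma.ι_desc_assoc, hs j n]⟩

theorem homToFormal_of_iso {M N : X.Modules} (e : M ≅ N) (h : Lef.HomToFormalBijective I M) :
    Lef.HomToFormalBijective I N := by
  refine ⟨fun φ ψ w => (cancel_epi e.hom).1 (h.1 _ _ fun n => by simp only [Category.assoc]; rw [w n]),
    fun y hy => ?_⟩
  obtain ⟨s, hs⟩ := h.2 (fun n => e.hom ≫ y n) fun n => by rw [Category.assoc, hy n]
  exact ⟨e.inv ≫ s, fun n => by rw [Category.assoc, hs n, e.inv_hom_id_assoc]⟩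

theorem homToFormal_of_presentation {A B F : X.Modules} (a : A ⟶ B) (b : B ⟶ F) [Epi b] (w : a ≫ b = 0)
    (hex : (ShortComplex.mk a b w).Exact) (hA : Lef.HomToFormalBijective I A)
    (hB : Lef.HomToFormalBijective I B) : Lef.HomToFormalBijective I F := by
  refine ⟨fun φ ψ e => (cancel_epi b).1 (hB.1 _ _ fun n => by simp only [Category.assoc]; rw [e n]),
    fun y hy => ?_⟩
  obtain ⟨s, hs⟩ := hB.2 (fun n => b ≫ y n) fun n => by rw [Category.assoc, hy n]
  have h0 : a ≫ s = 0 := hA.1 _ _ fun n => by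
    rw [Category.assoc, hs n, ← Category.assoc, w, zero_comp, zero_comp]
  haveI : Epi (ShortComplex.mk a b w).g := inferInstanceAs (Epi b)
  refine ⟨hex.desc s h0, fun n => ?_⟩
  rw [← cancel_epi b, ← Category.assoc, show b ≫ hex.desc s h0 = s from hex.g_desc s h0, hs n]

/-- On a quasi-affine noetherian scheme the condition for `O` implies it for every coherent module. -/
theorem homToFormal_of_isQuasiAffine [IsNoetherian X] [X.IsQuasiAffine]
    (h : Lef.HomToFormalBijective I (Coh.structureModule X)) {D : X.Modules} (hD : Coh.IsCoh D) :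
    Lef.HomToFormalBijective I D := by
  have hfree : ∀ l : ℕ, Lef.HomToFormalBijective I (FlatMod.freeMod X l) := fun l => homToFormal_coprod h
  have hepi : ∀ {G : X.Modules}, Coh.IsCoh G → ∃ (l : ℕ) (p : FlatMod.freeMod X l ⟶ G), Epi p := by
    intro G hG
    have hO : CohB1.IsAmple (Coh.structureModule X) := RA.isQuasiAffine_iff_isAmple.1 inferInstance
    obtain ⟨n₀, hn₀⟩ := RA.exists_globallyGenerated hO G hG.1 hG.2
    obtain ⟨ι, p, hp⟩ := hn₀ n₀ le_rfl
    have e : ∀ n : ℕ, Nonempty (CohB1.tensorPow (Coh.structureModule X) n ≅ Coh.structureModule X) := by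
      intro n
      induction n with
      | zero => exact ⟨Iso.refl _⟩
      | succ n ih => exact ⟨M2.tensorIso ih.some (Iso.refl _) ≪≫ M2.tensorLUnit _⟩
    exact GrMod11.exists_epi_freeMod hG.1 hG.2
      ⟨ι, p ≫ (M2.tensorIso (Iso.refl G) (e n₀).some ≪≫ M2.tensorRUnit G).hom, epi_comp _ _⟩
  obtain ⟨l, p, hp⟩ := hepi hD
  haveI := hp
  have hPc : Coh.IsCoh (FlatMod.freeMod X l) :=
    CohFound.isCoh_of_isFinLocFree (KFlat.Sch.isFinLocFree_freeMod _ l)
  obtain ⟨l', p', hp'⟩ := hepi (M1.isCoh_kernel hPc hD.1 p)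
  haveI := hp'
  have w : (p' ≫ kernel.ι p) ≫ p = 0 := by rw [Category.assoc, kernel.condition, comp_zero]
  have hex : (ShortComplex.mk (p' ≫ kernel.ι p) p w).Exact := by
    let φ : ShortComplex.mk (p' ≫ kernel.ι p) p w ⟶ ShortComplex.mk (kernel.ι p) p (kernel.condition p) :=
      { τ₁ := p', τ₂ := 𝟙 _, τ₃ := 𝟙 _ }
    haveI : Epi φ.τ₁ := hp'
    haveI : IsIso φ.τ₂ := inferInstanceAs (IsIso (𝟙 _))
    haveI : Mono φ.τ₃ := inferInstanceAs (Mono (𝟙 _))
    exact (ShortComplex.exact_iff_of_epi_of_isIso_of_mono φ).2 (ShortComplex.exact_kernel p)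
  exact homToFormal_of_presentation _ _ w hex (hfree l') (hfree l)

end Groth.Agent.LefFEt11
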