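import Groth.Agent.Lib.ModLimH13.Hom1
import Groth.Agent.Lib.ModLimH13.Sections
import Groth.Prelude.Def_FSch3
import Groth.Prelude.Def_FSch5
import Groth.Prelude.Def_Lef

/-!
# Maps into the completion of the structure sheaf
-/

set_option autoImplicit false
set_option linter.style.haveILetI false
set_option backward.isDefEq.respectTransparency false

universe u

open CategoryTheory CategoryTheory.Limits AlgebraicGeometry Opposite

noncomputable section

namespace Groth.Agent.LefFEt11

open Groth.Agent

variable {X : Scheme.{u}} (I : X.IdealSheafData)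

theorem structIso_pullSec {Z Y : Scheme.{u}} (g : Z ⟶ Y) {V : Y.Opens} (r : Γ(Coh.structureModule Y, V)) :
    (PicLoc.pullbackStructureIso g).hom.app (g ⁻¹ᵁ V) (M2.pullSec g (Coh.structureModule Y) r) =
      (show Γ(Coh.structureModule Z, g ⁻¹ᵁ V) from g.app V (show Γ(Y, V) from r)) := by
  have h := congrArg (fun φ : SheafOfModules.unit Y.ringCatSheaf ⟶
      (SheafOfModules.pushforward g.toRingCatSheafHom).obj (SheafOfModules.unit Z.ringCatSheaf) => φ.val.app (op V) r)
    (((SheafOfModules.pullbackPushforwardAdjunction g.toRingCatSheafHom).homEquiv _ _).apply_symm_apply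
      (SheafOfModules.unitToPushforwardObjUnit g.toRingCatSheafHom))
  exact h

/-- The transpose of a completed map into `O`. -/
theorem transpose_map {D : X.Modules} (φ : D ⟶ Coh.structureModule X) (K : X.IdealSheafData) :
    (Scheme.Modules.pullbackPushforwardAdjunction K.subschemeι).homEquiv _ _
      ((Scheme.Modules.pullback K.subschemeι).map φ ≫ (PicLoc.pullbackStructureIso K.subschemeι).hom) =
        φ ≫ ClSub.toSubscheme K := by
  ext V s
  show (PicLoc.pullbackStructureIso K.subschemeι).hom.app (K.subschemeι ⁻¹ᵁ V)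
      (((Scheme.Modules.pullback K.subschemeι).map φ).app (K.subschemeι ⁻¹ᵁ V) (M2.pullSec K.subschemeι D s)) =
    (ClSub.toSubscheme K).app V (φ.app V s)
  rw [Amp.map_pullSec]
  exact structIso_pullSec K.subschemeι _

/-- A compatibility of maps of pullbacks, checked on sections. -/
theorem map_cmp_comm {Z Z' : Scheme.{u}} (p : Z ⟶ Z') (g' : Z' ⟶ X) {g : Z ⟶ X} (w : p ≫ g' = g) {M N : X.Modules}
    (hM : Coh.IsQCoh M) (σ' : (Scheme.Modules.pullback g').obj M ⟶ (Scheme.Modules.pullback g').obj N)
    (σ : (Scheme.Modules.pullback g).obj M ⟶ (Scheme.Modules.pullback g).obj N)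
    (h : ∀ (V : X.Opens), IsAffineOpen V → ∀ s : Γ(M, V), ∃ a : Γ(N, V),
      σ'.app (g' ⁻¹ᵁ V) (ModLimH13.res' g' M le_rfl s) = ModLimH13.res' g' N le_rfl a ∧
        σ.app (g ⁻¹ᵁ V) (ModLimH13.res' g M le_rfl s) = ModLimH13.res' g N le_rfl a) :
    (Scheme.Modules.pullback p).map σ' ≫ (ModLimH13.cmp p g' w).hom.app N =
      (ModLimH13.cmp p g' w).hom.app M ≫ σ := by
  haveI := hM
  rw [← cancel_epi ((ModLimH13.cmp p g' w).inv.app M), Iso.inv_hom_id_app_assoc]
  refine ModLimH13.pullback_hom_ext g M _ _ fun x => ?_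
  obtain ⟨V, hV, hxV, -⟩ := exists_isAffineOpen_mem_and_subset (x := x) (U := (⊤ : X.Opens)) trivial
  refine ⟨V, Set.univ, hxV, hV, Submodule.span_univ, fun s _ => ?_⟩
  obtain ⟨a, ha', ha⟩ := h V hV s
  have e' : g ⁻¹ᵁ V ≤ p ⁻¹ᵁ (g' ⁻¹ᵁ V) := by rw [← w]; exact le_rfl
  have hinv : ((ModLimH13.cmp p g' w).inv.app M).app (g ⁻¹ᵁ V) (ModLimH13.res' g M le_rfl s) =
      ModLimH13.res' p ((Scheme.Modules.pullback g').obj M) e' (ModLimH13.res' g' M le_rfl s) := by
    rw [← ModLimH13.cmp_res' p g' M w le_rfl e' s]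
    exact congrArg (fun φ => φ.app (g ⁻¹ᵁ V)
      (ModLimH13.res' p ((Scheme.Modules.pullback g').obj M) e' (ModLimH13.res' g' M le_rfl s)))
      ((ModLimH13.cmp p g' w).hom_inv_id_app M)
  show ((ModLimH13.cmp p g' w).hom.app N).app (g ⁻¹ᵁ V)
    (((Scheme.Modules.pullback p).map σ').app (g ⁻¹ᵁ V)
      (((ModLimH13.cmp p g' w).inv.app M).app (g ⁻¹ᵁ V) (ModLimH13.res' g M le_rfl s))) = _
  refine (congrArg (fun t => ((ModLimH13.cmp p g' w).hom.app N).app (g ⁻¹ᵁ V)
    (((Scheme.Modules.pullback p).map σ').app (g ⁻¹ᵁ V) t)) hinv).trans ?_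
  refine (congrArg (((ModLimH13.cmp p g' w).hom.app N).app (g ⁻¹ᵁ V))
    (ModLimH13.map_res' p _ e' σ' _)).trans ?_
  rw [ha', ha]
  exact ModLimH13.cmp_res' p g' N w le_rfl e' a

variable [IsLocallyNoetherian X]

omit [IsLocallyNoetherian X] in
theorem complTransIso_eq (n : ℕ) :
    FSch.complTransIso I n = ModLimH13.cmp ((FSch.completionAlong X I).ι n) (FSch.completionToX X I (n + 1))
      (h := FSch.completionToX X I n) (FSch.completionToX_comm X I n) := by
  unfold FSch.complTransIso ModLimH13.cmp
  exact rfl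

omit [IsLocallyNoetherian X] in
/-- The transpose of a map into a direct image of the structure module, on pulled back sections. -/
theorem transpose_val {Z : Scheme.{u}} (g : Z ⟶ X) {D : X.Modules}
    (y : D ⟶ (Scheme.Modules.pushforward g).obj (Coh.structureModule Z)) (V : X.Opens) (s : Γ(D, V))
    (a : Γ(Coh.structureModule X, V))
    (ha : y.app V s = (ClSub.unitToPush g).app V a) :
    (((Scheme.Modules.pullbackPushforwardAdjunction g).homEquiv _ _).symm y ≫
      (PicLoc.pullbackStructureIso g).inv).app (g ⁻¹ᵁ V) (ModLimH13.res' g D le_rfl s) =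
        ModLimH13.res' g (Coh.structureModule X) le_rfl a := by
  rw [ModLimH13.res', M1.mres_id, ModLimH13.res', M1.mres_id]
  refine M1.app_injective (PicLoc.pullbackStructureIso g).hom _ ?_
  rw [structIso_pullSec]
  have h0 : (Scheme.Modules.pullbackPushforwardAdjunction g).homEquiv _ _
      ((((Scheme.Modules.pullbackPushforwardAdjunction g).homEquiv _ _).symm y ≫
        (PicLoc.pullbackStructureIso g).inv) ≫ (PicLoc.pullbackStructureIso g).hom) = y := by
    simp only [Category.assoc, Iso.inv_hom_id, Category.comp_id, Equiv.apply_symm_apply]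
  exact (congrArg (fun t => t.app V s) h0).trans ha

/-- Full faithfulness of completion gives the formal Hom condition. -/
theorem homToFormal_of_complModMap (D : X.Modules) (hD : Coh.IsQCoh D)
    (h : Function.Bijective fun φ : D ⟶ Coh.structureModule X => FSch.complModMap I φ) :
    Lef.HomToFormalBijective I D := by
  refine ⟨fun φ ψ e => h.1 (FSch.ModSys.Hom.ext (funext fun n => ?_)), fun y hy => ?_⟩
  · refine (cancel_mono (PicLoc.pullbackStructureIso (FSch.completionToX X I n)).hom).1 ?_
    refine ((Scheme.Modules.pullbackPushforwardAdjunction (I ^ (n + 1)).subschemeι).homEquiv _ _).injective ?_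
    exact (transpose_map φ (I ^ (n + 1))).trans ((e n).trans (transpose_map ψ (I ^ (n + 1))).symm)
  let σ : ∀ n : ℕ, (Scheme.Modules.pullback (FSch.completionToX X I n)).obj D ⟶
      (Scheme.Modules.pullback (FSch.completionToX X I n)).obj (Coh.structureModule X) := fun n =>
    ((Scheme.Modules.pullbackPushforwardAdjunction (FSch.completionToX X I n)).homEquiv _ _).symm (y n) ≫
      (PicLoc.pullbackStructureIso (FSch.completionToX X I n)).inv
  have key : ∀ n, (Scheme.Modules.pullback ((FSch.completionAlong X I).ι n)).map (σ (n + 1)) ≫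
      (ModLimH13.cmp ((FSch.completionAlong X I).ι n) (FSch.completionToX X I (n + 1))
        (h := FSch.completionToX X I n) (FSch.completionToX_comm X I n)).hom.app (Coh.structureModule X) =
      (ModLimH13.cmp ((FSch.completionAlong X I).ι n) (FSch.completionToX X I (n + 1))
        (h := FSch.completionToX X I n) (FSch.completionToX_comm X I n)).hom.app D ≫ σ n := by
    intro n
    refine map_cmp_comm _ _ _ hD (σ (n + 1)) (σ n) fun V hV s => ?_
    obtain ⟨a, ha⟩ := (I ^ (n + 1 + 1)).subschemeι_app_surjective ⟨V, hV⟩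
      (show Γ((I ^ (n + 1 + 1)).subscheme, _) from (y (n + 1)).app V s)
    have ha' : (y (n + 1)).app V s = (ClSub.toSubscheme (I ^ (n + 1 + 1))).app V a := ha.symm
    refine ⟨a, transpose_val _ (y (n + 1)) V s a ha', transpose_val _ (y n) V s a ?_⟩
    rw [← hy n]
    show (Lef.quotMap (Lef.pow_succ_le I n)).app V ((y (n + 1)).app V s) = _
    rw [ha']
    exact (ConcreteCategory.congr_hom
      (Scheme.Hom.congr_app (Scheme.IdealSheafData.inclusion_subschemeι (Lef.pow_succ_le I n)).symm V) a).symm
  have comm : ∀ n, (Scheme.Modules.pullback ((FSch.completionAlong X I).ι n)).map (σ (n + 1)) ≫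
      ((FSch.complMod I (Coh.structureModule X)).e n).hom = ((FSch.complMod I D).e n).hom ≫ σ n := by
    intro n
    have := key n
    rw [← complTransIso_eq] at this
    rw [FSch.complMod_e, FSch.complMod_e, Iso.app_hom, Iso.app_hom]
    exact this
  obtain ⟨φ, hφ⟩ := h.2 ⟨σ, comm⟩
  refine ⟨φ, fun n => ?_⟩
  rw [← transpose_map φ (I ^ (n + 1))]
  have hn : (Scheme.Modules.pullback (FSch.completionToX X I n)).map φ = σ n :=
    congrFun (congrArg FSch.ModSys.Hom.app hφ) n
  show (Scheme.Modules.pullbackPushforwardAdjunction (FSch.completionToX X I n)).homEquiv _ _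
    ((Scheme.Modules.pullback (FSch.completionToX X I n)).map φ ≫
      (PicLoc.pullbackStructureIso (FSch.completionToX X I n)).hom) = y n
  rw [hn]
  simp only [σ, Category.assoc, Iso.inv_hom_id, Category.comp_id]
  exact Equiv.apply_symm_apply _ _

end Groth.Agent.LefFEt11
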