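import Groth.Agent.Lib.LefFEt11.Lift
import Groth.Agent.Lib.EffCartier.Comap
import Groth.Agent.Lib.FEtEq25.GlobalSections
import Groth.Agent.Lib.FEtEq25.Graph
import Groth.Agent.Lib.HensProper6.Couple
import Groth.Agent.Lib.PushFin12.Basic
import Groth.Prelude.Def_FEt

/-!
# Finite étale covers and the Lefschetz condition
-/

set_option autoImplicit false
set_option linter.style.haveILetI false
set_option linter.unusedSectionVars false
set_option backward.isDefEq.respectTransparency false

universe u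

open CategoryTheory CategoryTheory.Limits AlgebraicGeometry TopologicalSpace Opposite

noncomputable section

namespace Groth.Agent.LefFEt11

open Groth.Agent

variable {X Z : Scheme.{u}} (h : Z ⟶ X) (K : X.IdealSheafData)

/-- The direct image of the structure module. -/
abbrev pushA : X.Modules := (Scheme.Modules.pushforward h).obj (Coh.structureModule Z)

theorem germ_mem_annQ_of_ideal {W : X.affineOpens} (r : Γ(X, W.1)) (hr : r ∈ K.ideal W) {x : X} (hx : x ∈ W.1) :
    X.presheaf.germ W.1 x hx r ∈ annQ K x := by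
  rw [mem_annQ_iff, RH26.str_apply]
  have h1 : X.presheaf.germ W.1 x hx r • Cyc26.oneStalk x =
      (Coh.structureModule X).presheaf.germ W.1 x hx (r • M1.one W.1) := by
    rw [RH26.gsmul]
    congr 1
    rw [← M1.mres_one (le_top : W.1 ≤ ⊤)]
    exact (TopCat.Presheaf.germ_res_apply (Coh.structureModule X).presheaf (homOfLE le_top) x hx _).symm
  have h0 : (ClSub.toSubscheme K).app W.1 (r • M1.one W.1) = 0 := by
    rw [← K.ker_subschemeι_app, RingHom.mem_ker] at hr
    show K.subschemeι.app W.1 (r * (1 : Γ(X, W.1))) = 0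
    rwa [mul_one]
  rw [h1, RefHull.stalkMapₗ_germ, h0, map_zero]

/-- A section of the direct image killed on the thickening has germs in the annihilator. -/
theorem germ_mem_of_app_eq_zero [IsAffineHom h] {W : X.Opens} (b : Γ(Z, h ⁻¹ᵁ W))
    (hb : (K.comap h).subschemeι.app (h ⁻¹ᵁ W) b = 0) {x : X} (hx : x ∈ W) :
    (pushA h).presheaf.germ W x hx b ∈
      annQ K x • (⊤ : Submodule (X.presheaf.stalk x) ((pushA h).presheaf.stalk x)) := by
  obtain ⟨W', hW', hxW', hle⟩ := exists_isAffineOpen_mem_and_subset hx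
  let b' : Γ(Z, h ⁻¹ᵁ W') := Z.presheaf.map (homOfLE (h.preimage_mono hle)).op b
  have hb' : b' ∈ (K.comap h).ideal ⟨h ⁻¹ᵁ W', hW'.preimage h⟩ := by
    rw [← (K.comap h).ker_subschemeι_app, RingHom.mem_ker]
    show (K.comap h).subschemeι.app (h ⁻¹ᵁ W') (Z.presheaf.map (homOfLE (h.preimage_mono hle)).op b) = 0
    rw [← CommRingCat.comp_apply, Scheme.Hom.naturality, CommRingCat.comp_apply, hb, map_zero]
  rw [EffCartier.comap_ideal K h ⟨W', hW'⟩ ⟨_, hW'.preimage h⟩ le_rfl] at hb'
  have key : ∀ c : Γ(Z, h ⁻¹ᵁ W'), (pushA h).presheaf.germ W' x hxW' (b' * c) ∈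
      annQ K x • (⊤ : Submodule (X.presheaf.stalk x) ((pushA h).presheaf.stalk x)) := by
    refine Submodule.span_induction (p := fun s _ => ∀ c : Γ(Z, h ⁻¹ᵁ W'),
      (pushA h).presheaf.germ W' x hxW' (s * c) ∈
        annQ K x • (⊤ : Submodule (X.presheaf.stalk x) ((pushA h).presheaf.stalk x))) ?_ ?_ ?_ ?_ hb'
    · intro s hs c
      obtain ⟨r, hr, rfl⟩ := hs
      have : (h.appLE W' (h ⁻¹ᵁ W') le_rfl r * c : Γ(Z, h ⁻¹ᵁ W')) =
          (r • (show Γ(pushA h, W') from c) : Γ(pushA h, W')) := by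
        rw [← Scheme.Hom.app_eq_appLE]
        rfl
      rw [this, RH26.gsmul]
      exact Submodule.smul_mem_smul (germ_mem_annQ_of_ideal K (W := ⟨W', hW'⟩) r hr hxW') Submodule.mem_top
    · intro c
      rw [zero_mul]
      exact (map_zero ((pushA h).presheaf.germ W' x hxW').hom).symm ▸ Submodule.zero_mem _
    · intro s t _ _ hs ht c
      rw [add_mul]
      exact (map_add ((pushA h).presheaf.germ W' x hxW').hom (s * c) (t * c)).symm ▸
        Submodule.add_mem _ (hs c) (ht c)
    · intro a s _ hs c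
      rw [smul_eq_mul, mul_comm a s, mul_assoc]
      exact hs (a * c)
  have h1 := key 1
  rw [mul_one] at h1
  rw [← TopCat.Presheaf.germ_res_apply (pushA h).presheaf (homOfLE hle) x hxW']
  exact h1

theorem app_comp_zero {W : X.Opens} (r : Γ(X, W)) (hr : K.subschemeι.app W r = 0) :
    (K.comap h).subschemeι.app (h ⁻¹ᵁ W) (h.app W r) = 0 := by
  have e := ConcreteCategory.congr_hom (Scheme.Hom.congr_app
    (Scheme.IdealSheafData.subschemeMap_subschemeι (K.comap h) K h (K.le_map_comap h)).symm W) r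
  rw [Scheme.Hom.comp_app, Scheme.Hom.comp_app] at e
  refine e.trans ?_
  simp only [CommRingCat.comp_apply, hr, map_zero]

/-- Germs in the annihilator come from sections killed on the thickening. -/
theorem exists_app_eq_zero_of_mem {x : X} {v : (pushA h).presheaf.stalk x}
    (hv : v ∈ annQ K x • (⊤ : Submodule (X.presheaf.stalk x) ((pushA h).presheaf.stalk x))) :
    ∃ (W : X.Opens) (hx : x ∈ W) (b : Γ(Z, h ⁻¹ᵁ W)), (pushA h).presheaf.germ W x hx b = v ∧
      (K.comap h).subschemeι.app (h ⁻¹ᵁ W) b = 0 := by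
  have hres : ∀ {V W : X.Opens} (i : W ≤ V) (b : Γ(Z, h ⁻¹ᵁ V)), (K.comap h).subschemeι.app (h ⁻¹ᵁ V) b = 0 →
      (K.comap h).subschemeι.app (h ⁻¹ᵁ W) (Z.presheaf.map (homOfLE (h.preimage_mono i)).op b) = 0 := by
    intro V W i b hb
    rw [← CommRingCat.comp_apply, Scheme.Hom.naturality, CommRingCat.comp_apply, hb, map_zero]
  induction hv using Submodule.smul_induction_on' with
  | smul r hr w _ =>
    obtain ⟨V, hV, k, rfl⟩ := X.presheaf.exists_germ_eq r
    obtain ⟨V', hV', c, rfl⟩ := (pushA h).presheaf.exists_germ_eq w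
    rw [mem_annQ_iff, RH26.str_apply] at hr
    have h1 : X.presheaf.germ V x hV k • Cyc26.oneStalk x =
        (Coh.structureModule X).presheaf.germ V x hV (k • M1.one V) := by
      rw [RH26.gsmul]
      congr 1
      rw [← M1.mres_one (le_top : V ≤ ⊤)]
      exact (TopCat.Presheaf.germ_res_apply (Coh.structureModule X).presheaf (homOfLE le_top) x hV _).symm
    rw [h1, RefHull.stalkMapₗ_germ] at hr
    obtain ⟨W, hW, i, i', e⟩ := (ClSub.quotMod K).presheaf.germ_eq x hV hV _ 0 (hr.trans (map_zero _).symm)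
    rw [map_zero] at e
    refine ⟨W ⊓ V', ⟨hW, hV'⟩, (show Γ(Z, h ⁻¹ᵁ (W ⊓ V')) from
      h.app (W ⊓ V') (X.presheaf.map (homOfLE (inf_le_left.trans i.le : W ⊓ V' ≤ V)).op k) *
      Z.presheaf.map (homOfLE (h.preimage_mono (inf_le_right : W ⊓ V' ≤ V'))).op (show Γ(Z, h ⁻¹ᵁ V') from c)),
      ?_, ?_⟩
    · show (pushA h).presheaf.germ (W ⊓ V') x ⟨hW, hV'⟩
        (X.presheaf.map (homOfLE (inf_le_left.trans i.le : W ⊓ V' ≤ V)).op k •
          (pushA h).presheaf.map (homOfLE (inf_le_right : W ⊓ V' ≤ V')).op c) = _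
      rw [RH26.gsmul, TopCat.Presheaf.germ_res_apply, TopCat.Presheaf.germ_res_apply]
    · rw [map_mul, app_comp_zero h K _ ?_, zero_mul]
      have e' : K.subschemeι.app V (k * (1 : Γ(X, V))) = (ClSub.toSubscheme K).app V (k • M1.one V) := rfl
      rw [mul_one] at e'
      have e2 : (K.subscheme.presheaf.map (homOfLE (K.subschemeι.preimage_mono i.le)).op)
          (K.subschemeι.app V k) = 0 := by
        rw [e']
        exact e
      rw [← CommRingCat.comp_apply, Scheme.Hom.naturality, CommRingCat.comp_apply]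
      refine Eq.trans ?_ ((congrArg (K.subscheme.presheaf.map
        (homOfLE (K.subschemeι.preimage_mono (inf_le_left : W ⊓ V' ≤ W))).op) e2).trans (map_zero _))
      rw [← CommRingCat.comp_apply, ← CommRingCat.comp_apply, ← Functor.map_comp]
      rfl
  | add a _ b _ ha hb =>
    obtain ⟨V, hV, a', rfl, ha'⟩ := ha
    obtain ⟨V', hV', b', rfl, hb'⟩ := hb
    refine ⟨V ⊓ V', ⟨hV, hV'⟩, Z.presheaf.map (homOfLE (h.preimage_mono inf_le_left)).op a' +
      Z.presheaf.map (homOfLE (h.preimage_mono inf_le_right)).op b', ?_, ?_⟩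
    · show (pushA h).presheaf.germ _ x _ ((pushA h).presheaf.map (homOfLE (inf_le_left : V ⊓ V' ≤ V)).op a' +
        (pushA h).presheaf.map (homOfLE (inf_le_right : V ⊓ V' ≤ V')).op b') = _
      rw [map_add, TopCat.Presheaf.germ_res_apply, TopCat.Presheaf.germ_res_apply]
    · rw [map_add, hres inf_le_left a' ha', hres inf_le_right b' hb', add_zero]

variable (I : X.IdealSheafData) [IsLocallyNoetherian X]

/-- Clopens of the preimage of the support extend when homomorphisms agree with their formal completions. -/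
theorem exists_clopen (hh : FEt.prop h)
    (hI : ∀ D : X.Modules, FlatMod.IsFinLocFree D → Lef.HomToFormalBijective I D)
    (C : Set ↥(pullback h I.subschemeι)) (hC : IsClopen C) :
    ∃ D : Set Z, IsClopen D ∧ pullback.fst h I.subschemeι ⁻¹' D = C := by
  haveI : IsFinite h := hh.1
  haveI : Etale h := hh.2
  have hA : FlatMod.IsFinLocFree (pushA h) :=
    ((PushFin12.finLocFree_iff h).2 ⟨inferInstance, inferInstance, inferInstance⟩).2
  have hbij := hI _ (isFinLocFree_dual hA)
  let f := pullback.fst h I.subschemeι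
  haveI : IsClosedImmersion f := MorphismProperty.pullback_fst h I.subschemeι inferInstance
  have hrange : ∀ n : ℕ, Set.range ((I ^ (n + 1)).comap h).subschemeι = Set.range f := fun n => by
    rw [Scheme.IdealSheafData.range_subschemeι, Scheme.IdealSheafData.support_comap,
      Scheme.IdealSheafData.support_pow_succ, Scheme.Pullback.range_fst, Scheme.IdealSheafData.range_subschemeι]
    rfl
  have hCn : ∀ n : ℕ, IsClopen (((I ^ (n + 1)).comap h).subschemeι ⁻¹' (f '' C)) := fun n => by
    refine ⟨(f.isClosedEmbedding.isClosedMap _ hC.1).preimage ((I ^ (n + 1)).comap h).subschemeι.continuous, ?_⟩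
    have : ((I ^ (n + 1)).comap h).subschemeι ⁻¹' (f '' C) =
        (((I ^ (n + 1)).comap h).subschemeι ⁻¹' (f '' Cᶜ))ᶜ := by
      ext z
      obtain ⟨w, hw⟩ : ((I ^ (n + 1)).comap h).subschemeι z ∈ Set.range f := hrange n ▸ ⟨z, rfl⟩
      simp only [Set.mem_preimage, Set.mem_compl_iff, ← hw, f.isClosedEmbedding.injective.mem_set_image,
        not_not]
    rw [this]
    exact ((f.isClosedEmbedding.isClosedMap _ hC.compl.1).preimage
      ((I ^ (n + 1)).comap h).subschemeι.continuous).isOpen_compl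
  choose e he heC using fun n => FEtEq25.exists_idempotent (hCn n)
  have hle : ∀ n : ℕ, (I ^ (n + 2)).comap h ≤ (I ^ (n + 1)).comap h := fun n =>
    Scheme.IdealSheafData.comap_mono h (Lef.pow_succ_le I n)
  have hcompat : ∀ n : ℕ, (Scheme.IdealSheafData.inclusion (hle n)).appTop (e (n + 1)) = e n := fun n => by
    refine HensProper6.idempotent_eq_of_basicOpen_eq ((he (n + 1)).map _) (he n) ?_
    rw [← Scheme.preimage_basicOpen_top, Opens.map_coe, heC, heC, ← Set.preimage_comp]
    congr 1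
    funext z
    exact (Scheme.Hom.comp_apply _ _ z).symm.trans
      (congrArg (fun g : ((I ^ (n + 1)).comap h).subscheme ⟶ Z => g z)
        (Scheme.IdealSheafData.inclusion_subschemeι (hle n)))
  let lift : ∀ (n : ℕ) (W : X.Opens), Γ(Z, h ⁻¹ᵁ W) → Prop := fun n W a =>
    ((I ^ (n + 1)).comap h).subschemeι.app (h ⁻¹ᵁ W) a =
      ((I ^ (n + 1)).comap h).subscheme.presheaf.map (homOfLE le_top).op (e n)
  have lift_res : ∀ (n : ℕ) {V W : X.Opens} (i : W ≤ V) (a : Γ(Z, h ⁻¹ᵁ V)), lift n V a →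
      lift n W (Z.presheaf.map (homOfLE (h.preimage_mono i)).op a) := by
    intro n V W i a ha
    show _ = _
    rw [← CommRingCat.comp_apply, Scheme.Hom.naturality, CommRingCat.comp_apply, ha, ← CommRingCat.comp_apply,
      ← Functor.map_comp]
    rfl
  let L : ∀ (_ : ℕ) (x : X), Set ((pushA h).presheaf.stalk x) := fun n x =>
    {v | ∃ (W : X.Opens) (hx : x ∈ W) (a : Γ(Z, h ⁻¹ᵁ W)), lift n W a ∧ (pushA h).presheaf.germ W x hx a = v}
  have hmono : ∀ n x, L (n + 1) x ⊆ L n x := by
    rintro n x _ ⟨W, hx, a, ha, rfl⟩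
    refine ⟨W, hx, a, ?_, rfl⟩
    show _ = _
    rw [← hcompat n, Scheme.Hom.congr_app (Scheme.IdealSheafData.inclusion_subschemeι (hle n)).symm (h ⁻¹ᵁ W),
      Scheme.Hom.comp_app, CommRingCat.comp_apply, CommRingCat.comp_apply, ha, ← CommRingCat.comp_apply,
      ← CommRingCat.comp_apply, Scheme.Hom.naturality_assoc, ← CommRingCat.comp_apply, Scheme.Hom.appTop,
      ← Functor.map_comp]
    rfl
  have hdiff : ∀ n x, ∀ a ∈ L n x, ∀ a' ∈ L n x,
      a - a' ∈ annQ (I ^ (n + 1)) x • (⊤ : Submodule (X.presheaf.stalk x) ((pushA h).presheaf.stalk x)) := by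
    rintro n x _ ⟨W, hx, a, ha, rfl⟩ _ ⟨W', hx', a', ha', rfl⟩
    have := germ_mem_of_app_eq_zero h (I ^ (n + 1))
      (Z.presheaf.map (homOfLE (h.preimage_mono (inf_le_left : W ⊓ W' ≤ W))).op a -
        Z.presheaf.map (homOfLE (h.preimage_mono (inf_le_right : W ⊓ W' ≤ W'))).op a')
      (by rw [map_sub, lift_res n (inf_le_left : W ⊓ W' ≤ W) a ha,
        lift_res n (inf_le_right : W ⊓ W' ≤ W') a' ha', sub_self]) (⟨hx, hx'⟩ : x ∈ W ⊓ W')
    have e2 : (pushA h).presheaf.germ W x hx a - (pushA h).presheaf.germ W' x hx' a' =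
        (pushA h).presheaf.germ (W ⊓ W') x ⟨hx, hx'⟩
          ((pushA h).presheaf.map (homOfLE (inf_le_left : W ⊓ W' ≤ W)).op a -
            (pushA h).presheaf.map (homOfLE (inf_le_right : W ⊓ W' ≤ W')).op a') := by
      rw [map_sub, TopCat.Presheaf.germ_res_apply, TopCat.Presheaf.germ_res_apply]
    rw [e2]
    exact this
  have hloc : ∀ n x, ∃ (W : X.Opens) (_ : x ∈ W) (a : Γ(pushA h, W)), ∀ (y : X) (hy : y ∈ W),
      (pushA h).presheaf.germ W y hy a ∈ L n y := by
    intro n x
    obtain ⟨W, hW, hxW, -⟩ := exists_isAffineOpen_mem_and_subset (x := x) (U := (⊤ : X.Opens)) trivial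
    obtain ⟨a, ha⟩ := ((I ^ (n + 1)).comap h).subschemeι_app_surjective ⟨_, hW.preimage h⟩
      (((I ^ (n + 1)).comap h).subscheme.presheaf.map (homOfLE le_top).op (e n))
    exact ⟨W, hxW, a, fun y hy => ⟨W, hy, a, ha, rfl⟩⟩
  obtain ⟨d, hd⟩ := exists_lift_of_bijective I hA hbij L hmono hdiff hloc
  let d' : Γ(Z, ⊤) := d
  have hde : ∀ n, ((I ^ (n + 1)).comap h).subschemeι.appTop d' = e n := by
    intro n
    choose W hxW a ha using hloc n
    have hl : ∀ x, ∃ (V : X.Opens) (_ : x ∈ V), lift n V (Z.presheaf.map (homOfLE le_top).op d') := by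
      intro x
      obtain ⟨W₀, hx₀, a₀, ha₀, he₀⟩ := ha x x (hxW x)
      obtain ⟨V, hxV, b, hb, hb0⟩ := exists_app_eq_zero_of_mem h (I ^ (n + 1))
        (hd n x _ ⟨W₀, hx₀, a₀, ha₀, rfl⟩)
      have heq : (pushA h).presheaf.germ (W₀ ⊓ V) x ⟨hx₀, hxV⟩
          ((pushA h).presheaf.map (homOfLE le_top).op d -
            (pushA h).presheaf.map (homOfLE (inf_le_left : W₀ ⊓ V ≤ W₀)).op a₀) =
          (pushA h).presheaf.germ V x hxV b := by
        rw [map_sub, TopCat.Presheaf.germ_res_apply, TopCat.Presheaf.germ_res_apply, hb]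
      obtain ⟨V', hV', i, i', he'⟩ := (pushA h).presheaf.germ_eq x _ _ _ _ heq
      refine ⟨V', hV', ?_⟩
      have h1 := lift_res n (i.le.trans inf_le_left) a₀ ha₀
      have h2 : (Z.presheaf.map (homOfLE le_top).op d' : Γ(Z, h ⁻¹ᵁ V')) =
          Z.presheaf.map (homOfLE (h.preimage_mono i'.le)).op b +
            Z.presheaf.map (homOfLE (h.preimage_mono (i.le.trans inf_le_left))).op a₀ := by
        show (pushA h).presheaf.map (homOfLE le_top).op d = (pushA h).presheaf.map i'.op b +
          (pushA h).presheaf.map (homOfLE (i.le.trans inf_le_left)).op a₀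
        rw [← he', map_sub, ← sub_eq_iff_eq_add]
        simp only [← ConcreteCategory.comp_apply, ← Functor.map_comp]
        rfl
      show _ = _
      rw [h2, map_add, h1]
      rw [← CommRingCat.comp_apply, Scheme.Hom.naturality, CommRingCat.comp_apply, hb0, map_zero, zero_add]
    choose V hxV hV using hl
    refine TopCat.Sheaf.eq_of_locally_eq' ((I ^ (n + 1)).comap h).subscheme.sheaf
      (fun x : X => ((I ^ (n + 1)).comap h).subschemeι ⁻¹ᵁ (h ⁻¹ᵁ V x)) ⊤ (fun x => homOfLE le_top) ?_ _ _ fun x => ?_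
    · exact fun z _ => Opens.mem_iSup.2 ⟨h (((I ^ (n + 1)).comap h).subschemeι z), hxV _⟩
    · refine Eq.trans ?_ (hV x)
      exact (ConcreteCategory.congr_hom (((I ^ (n + 1)).comap h).subschemeι.naturality
        (homOfLE (le_top : h ⁻¹ᵁ V x ≤ ⊤)).op) d').symm
  have hidem : IsIdempotentElem d' := by
    rw [IsIdempotentElem, ← sub_eq_zero]
    refine eq_zero_of_bijective I hA hbij (d' * d' - d') fun n x => ?_
    refine germ_mem_of_app_eq_zero h (I ^ (n + 1)) (W := ⊤) (d' * d' - d') ?_ (x := x) trivial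
    show ((I ^ (n + 1)).comap h).subschemeι.appTop (d' * d' - d') = 0
    rw [map_sub, map_mul, hde, (he n).eq, sub_self]
  refine ⟨Z.basicOpen d', FEtEq25.isClopen_basicOpen hidem, ?_⟩
  ext w
  obtain ⟨z, hz⟩ : f w ∈ Set.range ((I ^ (0 + 1)).comap h).subschemeι := (hrange 0).symm ▸ ⟨w, rfl⟩
  have h1 := heC 0
  rw [← hde 0, ← Scheme.preimage_basicOpen_top] at h1
  have h2 := Set.ext_iff.1 h1 z
  rw [Opens.map_coe, Set.mem_preimage, Set.mem_preimage, hz, f.isClosedEmbedding.injective.mem_set_image] at h2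
  exact h2

/-- Nonempty clopens meet the support. -/
theorem inter_range_nonempty (hO : Lef.HomToFormalBijective I (Coh.structureModule X)) (T : Set X)
    (hT : IsClopen T) (hne : T.Nonempty) : (T ∩ Set.range I.subschemeι).Nonempty := by
  by_contra hh
  obtain ⟨e, he, heT⟩ := FEtEq25.exists_idempotent hT
  have hz : M1.secHom (M := Coh.structureModule X) (show Γ(Coh.structureModule X, ⊤) from e) = 0 := by
    refine hO.1 _ 0 fun n => M1.unit_hom_ext ?_
    rw [Limits.zero_comp]
    refine ((congrArg ((ClSub.toSubscheme (I ^ (n + 1))).app ⊤) (M1.secHom_app_one _)).trans ?_ :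
      (ClSub.toSubscheme (I ^ (n + 1))).app ⊤ ((M1.secHom (M := Coh.structureModule X)
        (show Γ(Coh.structureModule X, ⊤) from e)).app ⊤ (M1.one ⊤)) = 0)
    show (I ^ (n + 1)).subschemeι.appTop e = 0
    refine HensProper6.idempotent_eq_of_basicOpen_eq (he.map _) IsIdempotentElem.zero ?_
    rw [← Scheme.preimage_basicOpen_top, Opens.map_coe, heT, Scheme.basicOpen_zero]
    refine Set.eq_empty_iff_forall_notMem.2 fun z hz => hh ⟨_, hz, ?_⟩
    rw [Scheme.IdealSheafData.range_subschemeι, ← I.support_pow_succ n, ← Scheme.IdealSheafData.range_subschemeι]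
    exact ⟨z, rfl⟩
  have e0 : e = 0 := by
    have := M1.secHom_app_one (M := Coh.structureModule X) (show Γ(Coh.structureModule X, ⊤) from e)
    rw [hz] at this
    exact this.symm
  obtain ⟨x, hx⟩ := hne
  rw [← heT, e0, Scheme.basicOpen_zero] at hx
  exact hx

/-- Restriction of finite étale covers is fully faithful. -/
theorem fullyFaithful_restrict (hI : ∀ D : X.Modules, FlatMod.IsFinLocFree D → Lef.HomToFormalBijective I D)
    (hO : Lef.HomToFormalBijective I (Coh.structureModule X)) :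
    (FEt.restrict I.subschemeι).Full ∧ (FEt.restrict I.subschemeι).Faithful :=
  ⟨FEtEq25.full_restrict _ (inter_range_nonempty I hO) fun h hh C hC => exists_clopen h I hh hI C hC,
    FEtEq25.faithful_restrict _ (inter_range_nonempty I hO)⟩

end Groth.Agent.LefFEt11
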