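import Groth.Agent.Lib.RefHull26.Dual
import Groth.Agent.Lib.TensorMod.IdealMod
import Groth.Agent.Lib.ModM1.LocFree
import Groth.Prelude.Def_Lef

/-!
# Lifting compatible germs into a finite locally free module through the dual
-/

set_option autoImplicit false
set_option linter.style.haveILetI false
set_option linter.unusedSectionVars false
set_option backward.isDefEq.respectTransparency false

universe u

open CategoryTheory AlgebraicGeometry TopologicalSpace Opposite

noncomputable section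

namespace Groth.Agent.LefFEt11

open Groth.Agent

variable {X : Scheme.{u}}

/-- The annihilator of the stalk of `O/K`. -/
def annQ (K : X.IdealSheafData) (x : X) : Ideal (X.presheaf.stalk x) :=
  Module.annihilator (X.presheaf.stalk x) ((ClSub.quotMod K).presheaf.stalk x)

/-- The stalk of `O → O/K`. -/
abbrev qSt (K : X.IdealSheafData) (x : X) := RefHull.stalkMapₗ (ClSub.toSubscheme K) x

theorem qSt_surjective (K : X.IdealSheafData) (x : X) : Function.Surjective (qSt K x) := by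
  haveI := M2.epi_toSubscheme K
  exact (M1.epi_iff_stalk _).1 inferInstance x

theorem mem_annQ_iff (K : X.IdealSheafData) (x : X) (r : X.presheaf.stalk x) :
    r ∈ annQ K x ↔ qSt K x (RH26.str x r) = 0 := by
  rw [RH26.str_apply, map_smul, annQ, Module.mem_annihilator]
  refine ⟨fun h => h _, fun h v => ?_⟩
  obtain ⟨w, rfl⟩ := qSt_surjective K x v
  obtain ⟨c, rfl⟩ := (RH26.str x).surjective w
  rw [RH26.str_apply, map_smul, smul_comm, h, smul_zero]

theorem exists_hom_of_globalHom {F G : X.Modules} (g : Γ(RefHull.homSh F G, ⊤)) :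
    ∃ φ : F ⟶ G, ∀ x, RefHull.stalkMapₗ φ x = g.1 ⟨x, trivial⟩ := by
  refine RH26.exists_hom_of_stalkFamily F G (fun x => g.1 ⟨x, trivial⟩) fun V m x hx => ?_
  obtain ⟨W, hW, j, n, hn⟩ := RefHull.isLocSect_of_mem g V (homOfLE le_top) m ⟨x, hx⟩
  exact ⟨W, hW, j.le, n, fun y hy => (hn ⟨y, hy⟩).symm⟩

theorem hom_ext_stalkMapₗ {F G : X.Modules} {φ ψ : F ⟶ G}
    (h : ∀ x, RefHull.stalkMapₗ φ x = RefHull.stalkMapₗ ψ x) : φ = ψ := by
  ext V m
  refine RH26.section_ext' G fun y hy => ?_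
  rw [← RefHull.stalkMapₗ_germ φ y hy m, h, RefHull.stalkMapₗ_germ]

variable [IsLocallyNoetherian X] {A : X.Modules}

theorem isFinLocFree_dual (hA : FlatMod.IsFinLocFree A) : FlatMod.IsFinLocFree (RefHull.dual A) := by
  obtain ⟨hfp, hfree⟩ := (M1.isFinLocFree_iff A).1 hA
  have hc : Coh.IsCoh A := (M1.isCoh_iff_isFP _).2 hfp
  refine (M1.isFinLocFree_iff _).2 ⟨M1.isFP_of_isCoh (RH26.isCoh_dual hc), fun x => ?_⟩
  haveI := hfree x
  haveI := M1.finite_stalk hc.1 hc.2 x
  exact Module.Free.of_equiv (RH26.dualEquiv hc x).symm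

theorem qSt_bidualAt_eq_zero (K : X.IdealSheafData) {x : X} {v : A.presheaf.stalk x}
    (hv : v ∈ annQ K x • (⊤ : Submodule (X.presheaf.stalk x) (A.presheaf.stalk x))) :
    (qSt K x).comp (RefHull.bidualAt A x v) = 0 := by
  induction hv using Submodule.smul_induction_on' with
  | smul r hr w _ =>
    rw [map_smul, LinearMap.comp_smul]
    exact LinearMap.ext fun θ => Module.mem_annihilator.1 hr _
  | add a _ b _ ha hb => rw [map_add, LinearMap.comp_add, ha, hb, add_zero]

theorem mem_annQ_smul_of_qSt_bidualAt (hA : FlatMod.IsFinLocFree A) (K : X.IdealSheafData) {x : X}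
    {v : A.presheaf.stalk x} (hv : (qSt K x).comp (RefHull.bidualAt A x v) = 0) :
    v ∈ annQ K x • (⊤ : Submodule (X.presheaf.stalk x) (A.presheaf.stalk x)) := by
  obtain ⟨hfp, hfree⟩ := (M1.isFinLocFree_iff A).1 hA
  have hc : Coh.IsCoh A := (M1.isCoh_iff_isFP _).2 hfp
  haveI := hfree x
  haveI := M1.finite_stalk hc.1 hc.2 x
  let b := Module.Free.chooseBasis (X.presheaf.stalk x) (A.presheaf.stalk x)
  rw [← b.sum_repr v]
  refine Submodule.sum_mem _ fun i _ => Submodule.smul_mem_smul ?_ Submodule.mem_top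
  rw [mem_annQ_iff]
  obtain ⟨θ, hθ⟩ := (RH26.evalStalk_bijective hfp (Coh.structureModule X) x).2
    ((RH26.str x).toLinearMap.comp (b.coord i))
  have := LinearMap.congr_fun hv θ
  rwa [LinearMap.comp_apply, RefHull.bidualAt_apply, hθ, LinearMap.zero_apply] at this

theorem isReflexiveAt_of_isFinLocFree (hA : FlatMod.IsFinLocFree A) (x : X) : RefHull.IsReflexiveAt A x := by
  obtain ⟨hfp, hfree⟩ := (M1.isFinLocFree_iff A).1 hA
  haveI := hfree x
  haveI := M1.finite_stalk ((M1.isCoh_iff_isFP _).2 hfp).1 ((M1.isCoh_iff_isFP _).2 hfp).2 x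
  exact inferInstanceAs (Module.IsReflexive (X.presheaf.stalk x) (A.presheaf.stalk x))

variable (I : X.IdealSheafData)

/-- A global section congruent to zero at every level vanishes. -/
theorem eq_zero_of_bijective (hA : FlatMod.IsFinLocFree A) (h : Lef.HomToFormalBijective I (RefHull.dual A))
    (δ : Γ(A, ⊤)) (hδ : ∀ (n : ℕ) (x : X), A.presheaf.germ ⊤ x trivial δ ∈
      annQ (I ^ (n + 1)) x • (⊤ : Submodule (X.presheaf.stalk x) (A.presheaf.stalk x))) : δ = 0 := by
  haveI hiso : IsIso (RefHull.bidualMap A) := (RH26.isReflexive_iff_stalks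
    ((M1.isCoh_iff_isFP _).2 ((M1.isFinLocFree_iff A).1 hA).1)).2 (isReflexiveAt_of_isFinLocFree hA)
  obtain ⟨φ, hφ⟩ := exists_hom_of_globalHom ((RefHull.bidualMap A).app ⊤ δ)
  have h0 : φ = 0 := h.1 φ 0 fun n => by
    rw [Limits.zero_comp]
    refine hom_ext_stalkMapₗ fun x => ?_
    rw [RH26.stalkMapₗ_comp, hφ, RefHull.bidualMap_app_apply, qSt_bidualAt_eq_zero _ (hδ n x)]
    refine (LinearMap.ext fun v => ?_).symm
    obtain ⟨V, hV, m, rfl⟩ := (RefHull.dual A).presheaf.exists_germ_eq v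
    exact (RefHull.stalkMapₗ_germ _ x hV m).trans (map_zero _)
  refine RH26.section_ext' A fun x hx => ?_
  rw [map_zero]
  have hz : RefHull.stalkMapₗ (RefHull.bidualMap A) x (A.presheaf.germ ⊤ x hx δ) = 0 := by
    refine (RH26.evalStalk_bijective (M1.isFP_of_isCoh (RH26.isCoh_dual
      ((M1.isCoh_iff_isFP _).2 ((M1.isFinLocFree_iff A).1 hA).1))) (Coh.structureModule X) x).1 ?_
    rw [RefHull.stalkMapₗ_germ, RefHull.evalStalk_germ, map_zero, ← hφ x, h0]
    refine LinearMap.ext fun v => ?_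
    obtain ⟨V, hV, m, rfl⟩ := (RefHull.dual A).presheaf.exists_germ_eq v
    exact (RefHull.stalkMapₗ_germ _ x hV m).trans (map_zero _)
  exact ((RH26.isIso_iff_stalkMapₗ _).1 hiso x).1 (hz.trans (map_zero _).symm)

/-- Compatible families of local classes come from a global section. -/
theorem exists_lift_of_bijective (hA : FlatMod.IsFinLocFree A) (h : Lef.HomToFormalBijective I (RefHull.dual A))
    (L : ∀ (_ : ℕ) (x : X), Set (A.presheaf.stalk x)) (hmono : ∀ n x, L (n + 1) x ⊆ L n x)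
    (hdiff : ∀ n x, ∀ a ∈ L n x, ∀ a' ∈ L n x,
      a - a' ∈ annQ (I ^ (n + 1)) x • (⊤ : Submodule (X.presheaf.stalk x) (A.presheaf.stalk x)))
    (hloc : ∀ n x, ∃ (W : X.Opens) (_ : x ∈ W) (a : Γ(A, W)), ∀ (y : X) (hy : y ∈ W),
      A.presheaf.germ W y hy a ∈ L n y) :
    ∃ d : Γ(A, ⊤), ∀ n x, ∀ a ∈ L n x, A.presheaf.germ ⊤ x trivial d - a ∈
      annQ (I ^ (n + 1)) x • (⊤ : Submodule (X.presheaf.stalk x) (A.presheaf.stalk x)) := by
  choose W hW s hs using hloc
  let c : ∀ (_ : ℕ) (x : X), A.presheaf.stalk x := fun n x => A.presheaf.germ (W n x) x (hW n x) (s n x)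
  have hc : ∀ n x, c n x ∈ L n x := fun n x => hs n x x (hW n x)
  have hw : ∀ n x, ∀ a ∈ L n x, ∀ a' ∈ L n x, (qSt (I ^ (n + 1)) x).comp (RefHull.bidualAt A x a) =
      (qSt (I ^ (n + 1)) x).comp (RefHull.bidualAt A x a') := fun n x a ha a' ha' => by
    rw [← sub_eq_zero, ← LinearMap.comp_sub, ← map_sub]
    exact qSt_bidualAt_eq_zero _ (hdiff n x a ha a' ha')
  have hy : ∀ n, ∃ y : RefHull.dual A ⟶ ClSub.quotMod (I ^ (n + 1)), ∀ x,
      RefHull.stalkMapₗ y x = (qSt (I ^ (n + 1)) x).comp (RefHull.bidualAt A x (c n x)) := fun n => by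
    refine RH26.exists_hom_of_stalkFamily _ _ _ fun V m x hx => ?_
    obtain ⟨W', hW', j, p, hp⟩ := RefHull.isLocSect_of_mem m (V ⊓ W n x) (homOfLE inf_le_left)
      (A.presheaf.map (homOfLE inf_le_right).op (s n x)) ⟨x, hx, hW n x⟩
    refine ⟨W', hW', j.le.trans inf_le_left, (ClSub.toSubscheme (I ^ (n + 1))).app W' p, fun y hy => ?_⟩
    rw [hw n y _ (hc n y) _ (hs n x y (j.le hy).2), LinearMap.comp_apply, RefHull.bidualAt_apply,
      RefHull.evalStalk_germ]
    have e := hp ⟨y, hy⟩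
    rw [TopCat.Presheaf.germ_res_apply] at e
    exact (RefHull.stalkMapₗ_germ (ClSub.toSubscheme (I ^ (n + 1))) y hy p).symm.trans
      (congrArg (qSt (I ^ (n + 1)) y) e.symm)
  choose y hy using hy
  have hcompat : Lef.IsFormalHom I (RefHull.dual A) y := fun n => by
    refine hom_ext_stalkMapₗ fun x => ?_
    rw [RH26.stalkMapₗ_comp, hy, hy, ← LinearMap.comp_assoc]
    have hq : (RefHull.stalkMapₗ (Lef.quotMap (Lef.pow_succ_le I n)) x).comp (qSt (I ^ (n + 2)) x) =
        qSt (I ^ (n + 1)) x := by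
      rw [← RH26.stalkMapₗ_comp]
      congr 1
      ext W' t
      exact (ConcreteCategory.congr_hom
        (Scheme.Hom.congr_app (Scheme.IdealSheafData.inclusion_subschemeι (Lef.pow_succ_le I n)).symm W') t).symm
    rw [show (RefHull.stalkMapₗ (Lef.quotMap (Lef.pow_succ_le I n)) x).comp (qSt (I ^ (n + 1 + 1)) x) =
      qSt (I ^ (n + 1)) x from hq]
    exact hw n x _ (hmono n x (hc (n + 1) x)) _ (hc n x)
  obtain ⟨φ, hφ⟩ := h.2 y hcompat
  haveI hiso : IsIso (RefHull.bidualMap A) := (RH26.isReflexive_iff_stalks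
    ((M1.isCoh_iff_isFP _).2 ((M1.isFinLocFree_iff A).1 hA).1)).2 (isReflexiveAt_of_isFinLocFree hA)
  obtain ⟨d, hd⟩ := ((ConcreteCategory.isIso_iff_bijective ((RefHull.bidualMap A).app ⊤)).1
    (Scheme.Modules.Hom.isIso_iff_isIso_app.1 hiso ⊤)).2 (RefHull.ofHom φ ⊤)
  refine ⟨d, fun n x a ha => mem_annQ_smul_of_qSt_bidualAt hA _ ?_⟩
  have e1 : RefHull.bidualAt A x (A.presheaf.germ ⊤ x trivial d) = RefHull.stalkMapₗ φ x := by
    rw [← RefHull.ofHom_apply φ ⊤ ⟨x, trivial⟩, ← hd]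
    rfl
  rw [map_sub, LinearMap.comp_sub, e1, ← RH26.stalkMapₗ_comp, hφ, hy, hw n x _ (hc n x) a ha, sub_self]

end Groth.Agent.LefFEt11
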